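import Groth.Prelude.Def_Found
import Mathlib

/-!
# Reduced tensor products with finite subalgebras of a finite field extension
-/

set_option autoImplicit false
universe u
open TensorProduct CAlg

namespace Groth.Agent.H1Red

variable {A B K' : Type u} [CommRing A] [IsDomain A] [CommRing B] [Algebra A B]
  [Field K'] [Algebra A K'] [Algebra (FractionRing A) K'] [IsScalarTower A (FractionRing A) K']
  [FiniteDimensional (FractionRing A) K']

variable (A B K') in
theorem isNoetherianRing_tensor [IsNoetherianRing B] : IsNoetherianRing (B ⊗[A] K') := by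
  classical
  haveI : IsNoetherianRing (B ⊗[A] FractionRing A) :=
    IsLocalization.isNoetherianRing (Algebra.algebraMapSubmonoid B (nonZeroDivisors A))
      (B ⊗[A] FractionRing A) inferInstance
  let f : B ⊗[A] FractionRing A →ₐ[A] B ⊗[A] K' :=
    Algebra.TensorProduct.map (AlgHom.id A B) (IsScalarTower.toAlgHom A (FractionRing A) K')
  algebraize [f.toRingHom]
  let bs := Module.finBasis (FractionRing A) K'
  haveI : Module.Finite (B ⊗[A] FractionRing A) (B ⊗[A] K') := by
    refine ⟨⟨(Finset.univ.image fun i => (1 : B) ⊗ₜ[A] bs i), ?_⟩⟩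
    rw [eq_top_iff]
    rintro z -
    induction z with
    | zero => exact zero_mem _
    | add x y hx hy => exact add_mem hx hy
    | tmul b x =>
      rw [← bs.sum_repr x, tmul_sum]
      refine Submodule.sum_mem _ fun i _ => ?_
      have : b ⊗ₜ[A] (bs.repr x i • bs i) = (b ⊗ₜ[A] bs.repr x i) • ((1 : B) ⊗ₜ[A] bs i) := by
        rw [Algebra.smul_def (b ⊗ₜ[A] bs.repr x i), RingHom.algebraMap_toAlgebra]
        show _ = f (b ⊗ₜ[A] bs.repr x i) * _
        simp [f, Algebra.smul_def]
      rw [this]
      exact Submodule.smul_mem _ _ (Submodule.subset_span (by simp))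
  exact IsNoetherianRing.of_finite (B ⊗[A] FractionRing A) (B ⊗[A] K')

set_option maxHeartbeats 1000000 in
theorem exists_noetherian_submodule [IsNoetherianRing B] [Module.Flat A B]
    (hJ : ∀ (q : Ideal B) [q.IsPrime], q ∈ minimalPrimes B → CAlg.IsN2 (B ⧸ q)) :
    ∃ N : Submodule B ((B ⊗[A] K') ⧸ nilradical (B ⊗[A] K')), IsNoetherian B N ∧
      ∀ x : K', IsIntegral A x → Ideal.Quotient.mk _ ((1 : B) ⊗ₜ[A] x) ∈ N := by
  classical
  haveI := isNoetherianRing_tensor A B K'
  haveI : Module.Flat A K' :=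
    haveI := IsLocalization.flat (FractionRing A) (nonZeroDivisors A)
    Module.Flat.trans A (FractionRing A) K'
  obtain ⟨s, bs, hbs⟩ := FiniteDimensional.exists_is_basis_integral A (FractionRing A) K'
  let π := Ideal.Quotient.mk (nilradical (B ⊗[A] K'))
  have key : ∀ Q : (minimalPrimes (B ⊗[A] K') : Set _), ∃ NQ : Submodule B ((B ⊗[A] K') ⧸ Q.1),
      IsNoetherian B NQ ∧
      ∀ x : K', IsIntegral A x → Ideal.Quotient.mk Q.1 ((1 : B) ⊗ₜ[A] x) ∈ NQ := by
    rintro ⟨Q, hQ⟩
    haveI : Q.IsPrime := hQ.1.1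
    let q : Ideal B := Q.under B
    haveI : Q.LiesOver q := ⟨rfl⟩
    have hq : q ∈ minimalPrimes B := by
      refine ⟨⟨inferInstance, bot_le⟩, ?_⟩
      rintro p ⟨hp, -⟩ hpq
      haveI := hp
      obtain ⟨P, hPQ, hP, hPp⟩ := Ideal.exists_ideal_le_liesOver_of_le Q hpq
      have hQP : Q ≤ P := hQ.2 ⟨hP, bot_le⟩ hPQ
      obtain rfl := le_antisymm hPQ hQP
      exact (hPp.over).ge
    let L := FractionRing ((B ⊗[A] K') ⧸ Q)
    let R₀ := B ⧸ q
    have hinjL : Function.Injective (algebraMap R₀ L) := by
      rw [IsScalarTower.algebraMap_eq R₀ ((B ⊗[A] K') ⧸ Q) L]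
      exact (IsFractionRing.injective ((B ⊗[A] K') ⧸ Q) L).comp
        (FaithfulSMul.algebraMap_injective R₀ ((B ⊗[A] K') ⧸ Q))
    haveI : FaithfulSMul R₀ L := (faithfulSMul_iff_algebraMap_injective _ _).mpr hinjL
    letI : Algebra (FractionRing R₀) L := FractionRing.liftAlgebra R₀ L
    let φ : B ⊗[A] K' →ₐ[B] L :=
      (IsScalarTower.toAlgHom B ((B ⊗[A] K') ⧸ Q) L).comp (Ideal.Quotient.mkₐ B Q)
    let g : K' →+* L := φ.toRingHom.comp
      (Algebra.TensorProduct.includeRight (R := A) (A := B) (B := K')).toRingHom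
    have hg : ∀ x, g x = φ ((1 : B) ⊗ₜ[A] x) := fun _ => rfl
    have hint : ∀ x : K', IsIntegral A x → IsIntegral R₀ (g x) := by
      intro x hx
      have h1 : IsIntegral B ((1 : B) ⊗ₜ[A] x) :=
        (hx.map (Algebra.TensorProduct.includeRight (R := A) (A := B) (B := K'))).tower_top
      exact (h1.map φ).tower_top
    let E : IntermediateField (FractionRing R₀) L :=
      IntermediateField.adjoin (FractionRing R₀) (Set.range fun i => g (bs i))
    haveI : FiniteDimensional (FractionRing R₀) E := by
      apply IntermediateField.finiteDimensional_adjoin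
      rintro _ ⟨i, rfl⟩
      exact (hint _ (hbs i)).tower_top
    have hB : ∀ b : B, algebraMap B L b ∈ E := by
      intro b
      rw [IsScalarTower.algebraMap_apply B R₀ L,
        IsScalarTower.algebraMap_apply R₀ (FractionRing R₀) L]
      exact E.algebraMap_mem _
    have hA : ∀ a : A, g (algebraMap A K' a) ∈ E := by
      intro a
      have : (1 : B) ⊗ₜ[A] algebraMap A K' a = algebraMap B (B ⊗[A] K') (algebraMap A B a) := by
        rw [Algebra.TensorProduct.algebraMap_apply, Algebra.algebraMap_self, RingHom.id_apply,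
          Algebra.algebraMap_eq_smul_one, Algebra.algebraMap_eq_smul_one, smul_tmul]
      rw [hg, this, φ.commutes]
      exact hB _
    have hK : ∀ k : FractionRing A, g (algebraMap (FractionRing A) K' k) ∈ E := by
      intro k
      obtain ⟨a, d, -, rfl⟩ := IsFractionRing.div_surjective A k
      rw [map_div₀, map_div₀, ← IsScalarTower.algebraMap_apply, ← IsScalarTower.algebraMap_apply]
      exact div_mem (hA a) (hA d)
    have hg' : ∀ x : K', g x ∈ E := by
      intro x
      rw [← bs.sum_repr x, map_sum]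
      refine sum_mem fun i _ => ?_
      rw [Algebra.smul_def, map_mul]
      exact mul_mem (hK _) (IntermediateField.subset_adjoin _ _ ⟨i, rfl⟩)
    have hφ : ∀ z, φ z ∈ E := by
      intro z
      induction z with
      | zero => rw [map_zero]; exact zero_mem _
      | add x y hx hy => rw [map_add]; exact add_mem hx hy
      | tmul b x =>
        have : b ⊗ₜ[A] x = algebraMap B (B ⊗[A] K') b * ((1 : B) ⊗ₜ[A] x) := by
          simp [Algebra.TensorProduct.algebraMap_apply]
        rw [this, map_mul, φ.commutes]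
        exact mul_mem (hB b) (hg' x)
    have htop : E = ⊤ := by
      rw [eq_top_iff]
      rintro l -
      obtain ⟨a, d, -, rfl⟩ := IsFractionRing.div_surjective ((B ⊗[A] K') ⧸ Q) l
      obtain ⟨a, rfl⟩ := Ideal.Quotient.mk_surjective a
      obtain ⟨d, rfl⟩ := Ideal.Quotient.mk_surjective d
      exact div_mem (hφ a) (hφ d)
    haveI : FiniteDimensional (FractionRing R₀) L :=
      Module.Finite.equiv ((IntermediateField.equivOfEq htop).trans
        IntermediateField.topEquiv).toLinearEquiv
    haveI : Module.Finite R₀ (integralClosure R₀ L) :=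
      hJ q hq L inferInstance
    haveI : Module.Finite B (integralClosure R₀ L) := Module.Finite.trans R₀ _
    let NL : Submodule B L := (Subalgebra.toSubmodule (integralClosure R₀ L)).restrictScalars B
    haveI : Module.Finite B NL := inferInstanceAs (Module.Finite B (integralClosure R₀ L))
    let j := (IsScalarTower.toAlgHom B ((B ⊗[A] K') ⧸ Q) L).toLinearMap
    refine ⟨NL.comap j, ?_, fun x hx => hint x hx⟩
    refine isNoetherian_of_injective (j.restrict (p := NL.comap j) (q := NL) fun _ h => h) ?_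
    intro a b hab
    exact Subtype.ext (IsFractionRing.injective ((B ⊗[A] K') ⧸ Q) L (congrArg Subtype.val hab))
  choose NQ hN hxN using key
  haveI : Finite (minimalPrimes (B ⊗[A] K') : Set _) :=
    (minimalPrimes.finite_of_isNoetherianRing (B ⊗[A] K')).to_subtype
  have hle : ∀ Q : (minimalPrimes (B ⊗[A] K') : Set _), nilradical (B ⊗[A] K') ≤ Q.1 :=
    fun Q => haveI := Q.2.1.1; nilradical_le_prime Q.1
  let Φ : ((B ⊗[A] K') ⧸ nilradical (B ⊗[A] K')) →ₗ[B]
      ((Q : (minimalPrimes (B ⊗[A] K') : Set _)) → (B ⊗[A] K') ⧸ Q.1) :=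
    LinearMap.pi fun Q => (Ideal.Quotient.factorₐ B (hle Q)).toLinearMap
  have hΦ : Function.Injective Φ := by
    rw [injective_iff_map_eq_zero]
    intro z hz
    obtain ⟨z, rfl⟩ := Ideal.Quotient.mk_surjective z
    rw [Ideal.Quotient.eq_zero_iff_mem, nilradical, Ideal.zero_eq_bot,
      ← Ideal.sInf_minimalPrimes, Submodule.mem_sInf]
    intro Q hQ
    exact Ideal.Quotient.eq_zero_iff_mem.mp (congrFun hz ⟨Q, hQ⟩)
  refine ⟨(Submodule.pi Set.univ NQ).comap Φ, ?_, ?_⟩
  · let F : (Submodule.pi Set.univ NQ).comap Φ →ₗ[B] ((Q : _) → NQ Q) :=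
      LinearMap.pi fun Q => ((LinearMap.proj Q).comp (Φ.comp (Submodule.subtype _))).codRestrict
        (NQ Q) fun z => z.2 Q (Set.mem_univ _)
    haveI := hN
    haveI : ∀ Q, Module.Finite B (NQ Q) := fun Q => inferInstance
    haveI : IsNoetherian B ((Q : (minimalPrimes (B ⊗[A] K') : Set _)) → NQ Q) :=
      isNoetherian_of_isNoetherianRing_of_finite B
        ((Q : (minimalPrimes (B ⊗[A] K') : Set _)) → NQ Q)
    refine isNoetherian_of_injective F ?_
    intro a b hab
    exact Subtype.ext (hΦ (funext fun Q => congrArg Subtype.val (congrFun hab Q)))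
  · intro x hx Q _
    exact hxN Q x hx

end Groth.Agent.H1Red
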